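import Groth.Prelude.Def_PP16
import Groth.Agent.Lib.SymGr.Adic
import Groth.Agent.Lib.QReg3.Change
import Mathlib.RingTheory.LocalProperties.Projective
import Mathlib.RingTheory.LocalProperties.FinitePresentation
import Mathlib.RingTheory.Flat.Basic

/-!
# Locally quasi-regular ideals and the conormal module
-/

set_option autoImplicit false

universe u

namespace Groth.Agent.QRegLoc3

open TensorProduct SymGr MvPolynomial

variable {R : Type u} [CommRing R] (J : Ideal R) {σ : Type u} [Fintype σ] (f : σ → ↥J)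

/-- Quasi-regular generation of `J` on `D(g)`, elementwise. -/
def Loc (g : R) : Prop :=
  (∀ x ∈ J, ∃ m : ℕ, g ^ m * x ∈ Ideal.span (Set.range fun i => (f i : R))) ∧
    ∀ (n : ℕ) (P : MvPolynomial σ R), P.IsHomogeneous n → eval (fun i => (f i : R)) P ∈ J ^ (n + 1) →
      ∀ d, ∃ m : ℕ, g ^ m * P.coeff d ∈ J

section away

variable {J}

theorem algebraMap_mem {g : R} {I : Ideal R} {x : R}
    (h : algebraMap R (Localization.Away g) x ∈ I.map (algebraMap R (Localization.Away g))) :
    ∃ m : ℕ, g ^ m * x ∈ I := by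
  obtain ⟨w, ⟨m, rfl⟩, hm⟩ := (IsLocalization.algebraMap_mem_map_algebraMap_iff (Submonoid.powers g) _ I x).1 h
  exact ⟨m, hm⟩

theorem mem_algebraMap {g : R} {I : Ideal R} {x : R} (m : ℕ) (h : g ^ m * x ∈ I) :
    algebraMap R (Localization.Away g) x ∈ I.map (algebraMap R (Localization.Away g)) :=
  (IsLocalization.algebraMap_mem_map_algebraMap_iff (Submonoid.powers g) _ I x).2 ⟨g ^ m, ⟨m, rfl⟩, h⟩

/-- The image of `Loc` data is a quasi-regular sequence generating `J` on `D(g)`. -/
theorem isQuasiRegular_of_loc {g : R} (h : Loc J f g) :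
    ∃ (r : ℕ) (u : Fin r → Localization.Away g), CAlgX.IsQuasiRegular u ∧
      Ideal.span (Set.range u) = J.map (algebraMap R (Localization.Away g)) := by
  classical
  let R' := Localization.Away g
  let a := algebraMap R R'
  let e := Fintype.equivFin σ
  let u : Fin (Fintype.card σ) → R' := fun i => a (f (e.symm i))
  have hspan : Ideal.span (Set.range u) = J.map a := by
    refine le_antisymm (Ideal.span_le.2 ?_) (Ideal.map_le_iff_le_comap.2 fun x hx => ?_)
    · rintro _ ⟨i, rfl⟩
      exact Ideal.mem_map_of_mem _ (f _).2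
    · obtain ⟨m, hm⟩ := h.1 x hx
      rw [show Set.range u = a '' Set.range fun i => (f i : R) by
        ext y
        simp only [u, Set.mem_range, Set.mem_image]
        constructor
        · rintro ⟨i, rfl⟩; exact ⟨_, ⟨_, rfl⟩, rfl⟩
        · rintro ⟨_, ⟨i, rfl⟩, rfl⟩; exact ⟨e i, by rw [e.symm_apply_apply]⟩, ← Ideal.map_span]
      exact mem_algebraMap m hm
  refine ⟨_, u, fun n P hP hev d => ?_, hspan⟩
  rw [hspan] at hev ⊢
  obtain ⟨⟨_, c, rfl⟩, hc⟩ := IsLocalization.exist_integer_multiples (Submonoid.powers g) P.support fun d => P.coeff d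
  choose A hA using hc
  let P₀ : MvPolynomial σ R :=
    ∑ d : P.support, monomial (Finsupp.mapDomain e.symm d.1) (A d.1 d.2)
  have hP₀ : P₀.IsHomogeneous n := IsHomogeneous.sum _ _ _ fun d _ => isHomogeneous_monomial _ (by
    rw [Finsupp.degree_eq_weight_one]
    have h1 := hP (mem_support_iff.1 d.2)
    rw [show (Finsupp.weight fun _ : σ => 1) (Finsupp.mapDomain e.symm d.1) =
      (Finsupp.weight fun _ : Fin (Fintype.card σ) => 1) d.1 by
        simp [Finsupp.weight_apply, Finsupp.sum_mapDomain_index, add_mul]]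
    exact h1)
  have hmap : MvPolynomial.map a P₀ = g ^ c • rename e.symm P := by
    conv_rhs => rw [P.as_sum]
    rw [← Finset.sum_coe_sort P.support fun d => monomial d (P.coeff d), map_sum, map_sum, Finset.smul_sum]
    refine Finset.sum_congr rfl fun d _ => ?_
    rw [map_monomial, rename_monomial, hA d.1 d.2, smul_monomial]
  have hev' : a (eval (fun i => (f i : R)) P₀) ∈ (J ^ (n + 1)).map a := by
    have e1 : a (eval (fun i => (f i : R)) P₀) = eval (fun i => a (f i)) (MvPolynomial.map a P₀) := by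
      rw [eval_map]; exact eval₂_comp_left a (RingHom.id R) _ P₀
    rw [e1, hmap, Algebra.smul_def, map_mul, eval_rename, Ideal.map_pow]
    exact Ideal.mul_mem_left _ _ hev
  obtain ⟨m, hm⟩ := algebraMap_mem hev'
  obtain ⟨m', hm'⟩ := h.2 n (C (g ^ m) * P₀) (hP₀.C_mul _) (by rwa [map_mul, eval_C]) (Finsupp.mapDomain e.symm d)
  rw [coeff_C_mul, ← mul_assoc, ← pow_add] at hm'
  have h2 := mem_algebraMap _ hm'
  have h3 : algebraMap R R' (coeff (Finsupp.mapDomain e.symm d) P₀) = g ^ c • P.coeff d := by
    rw [← coeff_map, show algebraMap R R' = a from rfl, hmap, coeff_smul, coeff_rename_mapDomain _ e.symm.injective]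
  rw [h3, Algebra.smul_def] at h2
  exact (Ideal.unit_mul_mem_iff_mem _ (IsLocalization.map_units R' (⟨g ^ c, c, rfl⟩ : Submonoid.powers g))).1 h2

/-- Quasi-regular generators on `D(g)` give `Loc` data. -/
theorem exists_loc {g : R} {r : ℕ} (u : Fin r → Localization.Away g) (hu : CAlgX.IsQuasiRegular u)
    (hspan : Ideal.span (Set.range u) = J.map (algebraMap R (Localization.Away g))) :
    ∃ (σ : Type u) (_ : Fintype σ) (f : σ → ↥J), Loc J f g := by
  classical
  let R' := Localization.Away g
  let a := algebraMap R R'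
  have hb : ∀ i, ∃ (b : ↥J) (v : Submonoid.powers g), u i * a v = a b := fun i => by
    obtain ⟨⟨b, v⟩, hbv⟩ := (IsLocalization.mem_map_algebraMap_iff (Submonoid.powers g) R').1
      (hspan ▸ Ideal.subset_span (Set.mem_range_self i) : u i ∈ J.map a)
    exact ⟨b, v, hbv⟩
  choose b v hbv using hb
  have hspan' : Ideal.span (Set.range fun i => a (b i)) = Ideal.span (Set.range u) := by
    refine le_antisymm (Ideal.span_le.2 ?_) (Ideal.span_le.2 ?_)
    · rintro _ ⟨i, rfl⟩
      show a (b i) ∈ _
      rw [← hbv i]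
      exact Ideal.mul_mem_right _ _ (Ideal.subset_span ⟨i, rfl⟩)
    · rintro _ ⟨i, rfl⟩
      exact (Ideal.mul_unit_mem_iff_mem _ (IsLocalization.map_units R' (v i))).1
        (hbv i ▸ Ideal.subset_span ⟨i, rfl⟩)
  have hq := QReg3.isQuasiRegular_of_span_eq u _ hu hspan'
  refine ⟨ULift.{u} (Fin r), inferInstance, fun i => b i.down, fun x hx => ?_, fun n P hP hev d => ?_⟩
  · have h1 : a x ∈ Ideal.span (Set.range fun i => a (b i)) := by
      rw [hspan', hspan]; exact Ideal.mem_map_of_mem _ hx
    rw [show (Set.range fun i => a (b i)) = a '' Set.range fun i => (b i : R) from (Set.range_comp a _), ← Ideal.map_span] at h1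
    obtain ⟨m, hm⟩ := algebraMap_mem h1
    refine ⟨m, ?_⟩
    rwa [show (Set.range fun i : ULift.{u} (Fin r) => (b i.down : R)) = Set.range fun i => (b i : R) from
      (ULift.down_surjective.range_comp fun i => (b i : R))]
  · have h1 := hq n (MvPolynomial.map a (rename ULift.down P)) ((hP.rename_isHomogeneous).map a) (by
      rw [hspan', hspan, ← Ideal.map_pow, eval_map,
        show eval₂ a (fun i => a (b i)) (rename ULift.down P) = a (eval (fun i => (b i : R)) (rename ULift.down P)) from
          (eval₂_comp_left a (RingHom.id R) (fun i => (b i : R)) (rename ULift.down P)).symm, eval_rename]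
      exact Ideal.mem_map_of_mem _ hev) (Finsupp.mapDomain ULift.down d)
    rw [coeff_map, coeff_rename_mapDomain _ ULift.down_injective, hspan', hspan] at h1
    exact algebraMap_mem h1

variable (J)

theorem isLocallyQuasiRegular_iff :
    PP16.IsLocallyQuasiRegular R J ↔ ∀ (P : Ideal R) [P.IsPrime], J ≤ P →
      ∃ g : R, g ∉ P ∧ ∃ (σ : Type u) (_ : Fintype σ) (f : σ → ↥J), Loc J f g := by
  refine forall_congr' fun P => forall_congr' fun _ => forall_congr' fun _ => exists_congr fun g => and_congr Iff.rfl ?_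
  exact ⟨fun ⟨r, u, h1, h2⟩ => exists_loc u h1 h2, fun ⟨σ, _, f, h⟩ => isQuasiRegular_of_loc f h⟩

end away

section maps

/-- `Σ c_i · class f_i` over `R`. -/
noncomputable abbrev LR : (σ →₀ R) →ₗ[R] J.Cotangent :=
  Finsupp.linearCombination R fun i => J.toCotangent (f i)

/-- `Σ c_i · class f_i` over `R/J`. -/
noncomputable abbrev LC : (σ →₀ R ⧸ J) →ₗ[R ⧸ J] J.Cotangent :=
  Finsupp.linearCombination (R ⧸ J) fun i => J.toCotangent (f i)

theorem mk_smul_cot (c : R) (m : J.Cotangent) : Ideal.Quotient.mk J c • m = c • m := rfl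

theorem LR_eq : LR J f = (LC J f).restrictScalars R ∘ₗ redCoeff R (R ⧸ J) σ := by
  refine Finsupp.lhom_ext fun i c => ?_
  simp [redCoeff, Finsupp.linearCombination_single, mk_smul_cot]

theorem LC_mapRange (c : σ →₀ R) : LC J f (redCoeff R (R ⧸ J) σ c) = LR J f c :=
  (LinearMap.congr_fun (LR_eq J f) c).symm

theorem smul_mem_range {g : R} (h : ∀ x ∈ J, ∃ m : ℕ, g ^ m * x ∈ Ideal.span (Set.range fun i => (f i : R)))
    (z : J.Cotangent) : ∃ k : ℕ, g ^ k • z ∈ LinearMap.range (LR J f) := by
  classical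
  obtain ⟨⟨x, hx⟩, rfl⟩ := J.toCotangent_surjective z
  obtain ⟨m, hm⟩ := h x hx
  obtain ⟨c, hc⟩ := (Submodule.mem_span_range_iff_exists_fun R).1 hm
  refine ⟨m, Finsupp.equivFunOnFinite.symm c, ?_⟩
  rw [Finsupp.linearCombination_apply, Finsupp.sum_fintype _ _ (fun i => zero_smul R (J.toCotangent (f i))), ← map_smul]
  simp only [Finsupp.coe_equivFunOnFinite_symm, ← map_smul, ← map_sum]
  refine congrArg _ (Subtype.ext ?_)
  simpa [Submodule.coe_sum] using hc

variable {ι : Type u} [Fintype ι]

theorem eval_prodMap_mem (x : Sym[R] ι (σ →₀ R)) :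
    eval (fun i => (f i : R)) (prodMap linForm x) ∈ J ^ Fintype.card ι := by
  have h : x ∈ Submodule.span R (Set.range (SymmetricPower.tprod R (ι := ι) (M := σ →₀ R))) := by
    rw [SymmetricPower.span_tprod_eq_top]; trivial
  induction h using Submodule.span_induction with
  | mem y hy =>
    obtain ⟨y, rfl⟩ := hy
    rw [prodMap_tprod, map_prod]
    suffices h2 : ∏ i, eval (fun i => (f i : R)) (linForm (y i)) ∈ ∏ _i : ι, J by simpa using h2
    refine Ideal.prod_mem_prod fun i _ => ?_
    · rw [linForm, Finsupp.linearCombination_apply, Finsupp.sum, map_sum]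
      exact Ideal.sum_mem _ fun j _ => by
        rw [MvPolynomial.smul_eval, eval_X]; exact Ideal.mul_mem_left _ _ (f j).2
  | zero => simp
  | add a b _ _ ha hb => rw [map_add, map_add]; exact add_mem ha hb
  | smul c a _ ha => rw [map_smul, MvPolynomial.smul_eval]; exact Ideal.mul_mem_left _ _ ha

theorem eval_linForm (c : σ →₀ R) :
    eval (fun i => (f i : R)) (linForm c) = ((c.sum fun j a => a • f j : ↥J) : R) := by
  simp [linForm, Finsupp.linearCombination_apply, Finsupp.sum, Submodule.coe_sum, MvPolynomial.smul_eval]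

theorem LR_apply_eq (c : σ →₀ R) : LR J f c = J.toCotangent (c.sum fun j a => a • f j) := by
  rw [Finsupp.linearCombination_apply, map_finsuppSum]
  exact Finsupp.sum_congr fun j _ => (map_smul _ _ _).symm

/-- The value at `f` as a linear map into `J^n`. -/
noncomputable def evM : Sym[R] ι (σ →₀ R) →ₗ[R] ↥((J ^ Fintype.card ι).restrictScalars R) :=
  LinearMap.codRestrict _ ((MvPolynomial.aeval fun i => (f i : R)).toLinearMap ∘ₗ prodMap (ι := ι) linForm)
    fun x => eval_prodMap_mem J f x

theorem coe_evM (x : Sym[R] ι (σ →₀ R)) : (evM J f x : R) = eval (fun i => (f i : R)) (prodMap linForm x) := rfl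

set_option backward.isDefEq.respectTransparency false in
theorem canon_map_eq (x : Sym[R] ι (σ →₀ R)) :
    canon R J ι (map (LR J f) x) = Submodule.Quotient.mk (evM J f x) := by
  have h : canon R J ι ∘ₗ map (LR J f) =
      (((J ^ (Fintype.card ι + 1)).restrictScalars R).comap
        ((J ^ Fintype.card ι).restrictScalars R).subtype).mkQ ∘ₗ evM J f := hom_ext fun y => by
    have hz : (fun i => LR J f (y i)) = fun i => J.toCotangent ((y i).sum fun j c => c • f j) :=
      funext fun i => LR_apply_eq J f (y i)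
    rw [LinearMap.comp_apply, map_tprod, hz, canon_tprod, LinearMap.comp_apply, Submodule.mkQ_apply]
    refine congrArg Submodule.Quotient.mk (Subtype.ext ?_)
    rw [coe_evM, prodMap_tprod, map_prod]
    exact Finset.prod_congr rfl fun i _ => (eval_linForm J f (y i)).symm
  exact LinearMap.congr_fun h x

theorem smul_mem_range_map {g : R} (h : ∀ x ∈ J, ∃ m : ℕ, g ^ m * x ∈ Ideal.span (Set.range fun i => (f i : R)))
    (y : Sym[R] ι J.Cotangent) : ∃ k : ℕ, g ^ k • y ∈ LinearMap.range (map (ι := ι) (LR J f)) := by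
  have hy : y ∈ Submodule.span R (Set.range (SymmetricPower.tprod R (ι := ι) (M := J.Cotangent))) := by
    rw [SymmetricPower.span_tprod_eq_top]; trivial
  induction hy using Submodule.span_induction with
  | mem y hy =>
    obtain ⟨z, rfl⟩ := hy
    choose k c hc using fun i => smul_mem_range J f h (z i)
    refine ⟨∑ i, k i, SymmetricPower.tprod R c, ?_⟩
    rw [map_tprod]
    simp only [hc]
    rw [MultilinearMap.map_smul_univ, Finset.prod_pow_eq_pow_sum]
  | zero => exact ⟨0, by simp⟩
  | add a b _ _ ha hb =>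
    obtain ⟨ka, hka⟩ := ha
    obtain ⟨kb, hkb⟩ := hb
    refine ⟨ka + kb, ?_⟩
    rw [smul_add, pow_add, mul_smul, mul_smul, smul_comm (g ^ ka) (g ^ kb) a]
    exact add_mem (Submodule.smul_mem _ _ hka) (Submodule.smul_mem _ _ hkb)
  | smul c a _ ha =>
    obtain ⟨ka, hka⟩ := ha
    exact ⟨ka, by rw [smul_comm]; exact Submodule.smul_mem _ _ hka⟩

theorem map_smul_map {M N : Type u} [AddCommGroup M] [Module R M] [AddCommGroup N] [Module R N]
    (c : R) (l : M →ₗ[R] N) (x : Sym[R] ι M) : map (c • l) x = c ^ Fintype.card ι • map l x := by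
  have h : map (ι := ι) (c • l) = c ^ Fintype.card ι • map (ι := ι) l := hom_ext fun y => by
    rw [LinearMap.smul_apply, map_tprod, map_tprod]
    simp only [LinearMap.smul_apply, MultilinearMap.map_smul_univ, Finset.prod_const, Finset.card_univ]
  rw [h, LinearMap.smul_apply]

set_option backward.isDefEq.respectTransparency false in
theorem canon_map_eq_zero_iff (x : Sym[R] ι (σ →₀ R)) :
    canon R J ι (map (LR J f) x) = 0 ↔
      eval (fun i => (f i : R)) (prodMap linForm x) ∈ J ^ (Fintype.card ι + 1) := by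
  rw [canon_map_eq, Submodule.Quotient.mk_eq_zero]
  exact Iff.rfl

theorem sym_eq_zero_of_loc {g : R} (h : Loc J f g) [Nonempty ι] (y : Sym[R] ι J.Cotangent)
    (hy : canon R J ι y = 0) : ∃ k : ℕ, g ^ k • y = 0 := by
  classical
  obtain ⟨a, x, hx⟩ := smul_mem_range_map J f h.1 y
  obtain ⟨Ψ, hΨ⟩ := exists_leftInverse_prodMap_linForm (R := R) (ι := ι) (σ := σ)
  let P := prodMap linForm x
  have hP : P.IsHomogeneous (Fintype.card ι) := fun d hd => by
    rw [show (1 : σ → ℕ) = fun _ => 1 from rfl, ← Finsupp.degree_eq_weight_one]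
    exact prodMap_linForm_isHomogeneous x d hd
  have h0 := (canon_map_eq_zero_iff J f x).1 (by rw [hx, map_smul, hy, smul_zero])
  choose m hm using fun d => h.2 _ P hP h0 d
  refine ⟨P.support.sup m + a, ?_⟩
  rw [pow_add, mul_smul, ← hx, show x = Ψ P from (LinearMap.congr_fun hΨ x).symm]
  nth_rewrite 2 [P.as_sum]
  simp only [map_sum, Finset.smul_sum]
  refine Finset.sum_eq_zero fun d hd => ?_
  have h2 : g ^ P.support.sup m * P.coeff d ∈ J := by
    rw [show P.support.sup m = P.support.sup m - m d + m d from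
      (Nat.sub_add_cancel (Finset.le_sup hd)).symm, pow_add, mul_assoc]
    exact Ideal.mul_mem_left _ _ (hm d)
  rw [show monomial d (P.coeff d) = P.coeff d • monomial d (1 : R) by rw [smul_monomial, smul_eq_mul, mul_one],
    map_smul, map_smul, smul_smul]
  exact smul_sym_eq_zero _ (fun z => (mk_smul_cot J _ z).symm.trans (by
    rw [Ideal.Quotient.eq_zero_iff_mem.2 h2, zero_smul])) _

theorem exists_smul_eq_zero_of_LC {g : R} (h : Loc J f g) (c : σ →₀ R ⧸ J) (hc : LC J f c = 0) :
    ∃ k : ℕ, Ideal.Quotient.mk J g ^ k • c = 0 := by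
  classical
  obtain ⟨c, rfl⟩ := redCoeff_surjective (R := R) (σ := σ) (C := R ⧸ J) Ideal.Quotient.mk_surjective c
  rw [LC_mapRange] at hc
  let z : ↥J := c.sum fun j a => a • f j
  have hz : LR J f c = J.toCotangent z := by
    simp only [z, Finsupp.linearCombination_apply, map_finsuppSum, map_smul]
  rw [hz, Ideal.toCotangent_eq_zero] at hc
  have hev : eval (fun i => (f i : R)) (linForm c) = (z : R) := by
    simp [z, linForm, Finsupp.linearCombination_apply, Finsupp.sum, Submodule.coe_sum, MvPolynomial.smul_eval]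
  have hhom : (linForm c).IsHomogeneous 1 := by
    rw [linForm, Finsupp.linearCombination_apply, Finsupp.sum]
    exact IsHomogeneous.sum _ _ _ fun j _ => by
      rw [MvPolynomial.smul_eq_C_mul]; exact (isHomogeneous_X R j).C_mul _
  choose m hm using fun j => h.2 1 (linForm c) hhom (by rw [hev]; exact hc) (Finsupp.single j 1)
  refine ⟨Finset.univ.sup m, Finsupp.ext fun j => ?_⟩
  have hco : coeff (Finsupp.single j 1) (linForm c) = c j := by
    simp [linForm, Finsupp.linearCombination_apply, Finsupp.sum, coeff_sum, coeff_smul, coeff_X,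
      Finsupp.single_eq_single_iff, eq_comm]
  have h2 : g ^ Finset.univ.sup m * c j ∈ J := by
    rw [show Finset.univ.sup m = Finset.univ.sup m - m j + m j from
      (Nat.sub_add_cancel (Finset.le_sup (Finset.mem_univ j))).symm, pow_add, mul_assoc, ← hco]
    exact Ideal.mul_mem_left _ _ (hm j)
  rw [Finsupp.smul_apply, Finsupp.zero_apply, redCoeff, Finsupp.mapRange.linearMap_apply,
    Finsupp.mapRange_apply, smul_eq_mul, ← map_pow, Algebra.linearMap_apply, Ideal.Quotient.algebraMap_eq,
    ← map_mul]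
  exact Ideal.Quotient.eq_zero_iff_mem.2 h2

theorem smul_mem_range_LC {g : R} (h : Loc J f g) (z : J.Cotangent) :
    ∃ k : ℕ, Ideal.Quotient.mk J g ^ k • z ∈ LinearMap.range (LC J f) := by
  obtain ⟨k, c, hc⟩ := smul_mem_range J f h.1 z
  exact ⟨k, _, (LC_mapRange J f c).trans (hc.trans (by rw [← map_pow]; rfl))⟩

end maps

section global

variable {C : Type u} [CommRing C] {M N : Type u} [AddCommGroup M] [Module C M] [AddCommGroup N] [Module C N]

theorem bijective_map (S : Submonoid C) (L : N →ₗ[C] M) (h1 : ∀ c, L c = 0 → ∃ u ∈ S, u • c = 0)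
    (h2 : ∀ z, ∃ u ∈ S, u • z ∈ LinearMap.range L) : Function.Bijective (LocalizedModule.map S L) := by
  constructor
  · rw [injective_iff_map_eq_zero]
    intro x
    induction x using LocalizedModule.induction_on with
    | _ c s =>
      intro hx
      rw [LocalizedModule.map_mk, ← LocalizedModule.zero_mk s, LocalizedModule.mk_eq] at hx
      obtain ⟨v, hv⟩ := hx
      simp only [smul_zero, Submonoid.smul_def, ← map_smul] at hv
      obtain ⟨u, hu, hu'⟩ := h1 _ hv
      rw [← LocalizedModule.zero_mk s, LocalizedModule.mk_eq]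
      refine ⟨⟨u, hu⟩ * v, ?_⟩
      simp only [smul_zero, Submonoid.smul_def, Submonoid.coe_mul, mul_smul]
      exact hu'
  · intro x
    induction x using LocalizedModule.induction_on with
    | _ z s =>
      obtain ⟨u, hu, c, hc⟩ := h2 z
      refine ⟨LocalizedModule.mk c (⟨u, hu⟩ * s), ?_⟩
      rw [LocalizedModule.map_mk, hc]
      exact LocalizedModule.mk_cancel_common_left ⟨u, hu⟩ s z

end global

set_option backward.isDefEq.respectTransparency false in
theorem conditions_of_isLocallyQuasiRegular (h : PP16.IsLocallyQuasiRegular R J) :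
    J.FG ∧ Module.Projective (R ⧸ J) J.Cotangent ∧ PP16.SymGrBijective R J := by
  classical
  rw [isLocallyQuasiRegular_iff] at h
  have hfg : J.FG := by
    let G : Set R := {g | ∃ t : Finset R, ↑t ⊆ (J : Set R) ∧ ∀ x ∈ J, ∃ m : ℕ, g ^ m * x ∈ Ideal.span (t : Set R)}
    have hG : Ideal.span G = ⊤ := by
      by_contra hne
      obtain ⟨P, hP, hle⟩ := Ideal.exists_le_maximal _ hne
      by_cases hJP : J ≤ P
      · obtain ⟨g, hg, σ, _, f, hf⟩ := h P hJP
        refine hg (hle (Ideal.subset_span ⟨Finset.univ.image fun i => (f i : R), ?_, ?_⟩))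
        · rw [Finset.coe_image]; rintro _ ⟨i, _, rfl⟩; exact (f i).2
        · intro x hx
          rw [Finset.coe_image, Finset.coe_univ, Set.image_univ]
          exact hf.1 x hx
      · obtain ⟨g, hgJ, hg⟩ := SetLike.not_le_iff_exists.1 hJP
        refine hg (hle (Ideal.subset_span ⟨{g}, by simpa using hgJ, fun x hx => ⟨1, ?_⟩⟩))
        rw [pow_one, Finset.coe_singleton]
        exact Ideal.mul_mem_right _ _ (Ideal.subset_span rfl)
    obtain ⟨s, hsG, hs⟩ := Submodule.mem_span_finite_of_mem_span ((Ideal.eq_top_iff_one _).1 hG)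
    choose t htJ ht using fun g : s => hsG g.2
    refine ⟨s.attach.biUnion t, le_antisymm (Ideal.span_le.2 ?_) fun x hx => ?_⟩
    · intro y hy
      obtain ⟨g, -, hyg⟩ := Finset.mem_biUnion.1 hy
      exact htJ g hyg
    · let K : Ideal R := Submodule.comap (LinearMap.toSpanSingleton R R x) (Ideal.span ((s.attach.biUnion t : Finset R) : Set R))
      have hK : Ideal.span (s : Set R) ≤ K.radical := Ideal.span_le.2 fun g hg => by
        obtain ⟨m, hm⟩ := ht ⟨g, hg⟩ x hx
        refine ⟨m, Submodule.mem_comap.2 ?_⟩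
        rw [LinearMap.toSpanSingleton_apply, smul_eq_mul]
        exact Ideal.span_mono (Finset.coe_subset.2 (Finset.subset_biUnion_of_mem t (Finset.mem_attach _ _))) hm
      have : (1 : R) ∈ K := by
        rw [← Ideal.eq_top_iff_one, ← Ideal.radical_eq_top, eq_top_iff]
        exact (Ideal.eq_top_iff_one _).2 hs ▸ hK
      simpa [K] using this
  refine ⟨hfg, ?_, (symGrBijective_iff J).2 fun ι _ _ => ?_⟩
  · haveI : Module.Finite R J.Cotangent := by
      haveI : Module.Finite R ↥J := Module.Finite.iff_fg.2 hfg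
      exact Module.Finite.of_surjective J.toCotangent J.toCotangent_surjective
    haveI : Module.Finite (R ⧸ J) J.Cotangent := Module.Finite.of_restrictScalars_finite R _ _
    let G : Set (R ⧸ J) := {g | ∃ (σ : Type u) (_ : Fintype σ) (f : σ → ↥J) (g₀ : R), Ideal.Quotient.mk J g₀ = g ∧ Loc J f g₀}
    have hG : Ideal.span G = ⊤ := by
      by_contra hne
      obtain ⟨p, hp, hle⟩ := Ideal.exists_le_maximal _ hne
      obtain ⟨g, hg, σ, _, f, hf⟩ := h (p.comap (Ideal.Quotient.mk J)) (by
        intro x hx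
        rw [Ideal.mem_comap, Ideal.Quotient.eq_zero_iff_mem.2 hx]
        exact zero_mem _)
      exact hg (hle (Ideal.subset_span ⟨σ, inferInstance, f, g, rfl, hf⟩))
    have hbij : ∀ {σ : Type u} [Fintype σ] (f : σ → ↥J) (g₀ : R), Loc J f g₀ →
        ∀ S : Submonoid (R ⧸ J), Ideal.Quotient.mk J g₀ ∈ S → Function.Bijective (LocalizedModule.map S (LC J f)) :=
      fun f g₀ hf S hS => bijective_map S _
        (fun c hc => by
          obtain ⟨k, hk⟩ := exists_smul_eq_zero_of_LC J f hf c hc
          exact ⟨_, pow_mem hS k, hk⟩)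
        (fun z => by
          obtain ⟨k, hk⟩ := smul_mem_range_LC J f hf z
          exact ⟨_, pow_mem hS k, hk⟩)
    haveI : Module.FinitePresentation (R ⧸ J) J.Cotangent := by
      refine Module.FinitePresentation.of_localizationSpan (s := G) hG fun g => ?_
      obtain ⟨g, σ, _, f, g₀, hg₀, hf⟩ := g
      exact Module.FinitePresentation.of_equiv (M := LocalizedModule (Submonoid.powers g) (σ →₀ R ⧸ J)) (R := Localization (Submonoid.powers g)) (LinearEquiv.ofBijective (LocalizedModule.map (Submonoid.powers g) (LC J f))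
        (hbij f g₀ hf (Submonoid.powers g) (hg₀ ▸ Submonoid.mem_powers _)))
    refine Module.projective_of_localization_maximal fun p hp => ?_
    obtain ⟨g, hg, hgp⟩ : ∃ g ∈ G, g ∉ p := by
      by_contra hall
      push Not at hall
      exact hp.ne_top (top_le_iff.1 (hG ▸ Ideal.span_le.2 hall))
    obtain ⟨σ, _, f, g₀, rfl, hf⟩ := hg
    haveI : Module.Projective (Localization.AtPrime p) (LocalizedModule p.primeCompl (σ →₀ R ⧸ J)) :=
      Module.projective_of_isLocalizedModule p.primeCompl (LocalizedModule.mkLinearMap p.primeCompl _)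
    exact Module.Projective.of_equiv (LinearEquiv.ofBijective _ (hbij f g₀ hf p.primeCompl hgp))
  · rw [injective_iff_map_eq_zero]
    intro y hy
    let K : Ideal R := LinearMap.ker (LinearMap.toSpanSingleton R (Sym[R] ι J.Cotangent) y)
    suffices K = ⊤ by
      have h1 : (1 : R) ∈ K := this ▸ Submodule.mem_top
      rwa [LinearMap.mem_ker, LinearMap.toSpanSingleton_apply, one_smul] at h1
    by_contra hne
    obtain ⟨P, hP, hle⟩ := Ideal.exists_le_maximal _ hne
    by_cases hJP : J ≤ P
    · obtain ⟨g, hg, σ, _, f, hf⟩ := h P hJP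
      obtain ⟨k, hk⟩ := sym_eq_zero_of_loc J f hf y hy
      exact hg (hP.isPrime.mem_of_pow_mem k (hle hk))
    · refine hJP fun j hj => hle ?_
      exact smul_sym_eq_zero j (fun z => (mk_smul_cot J j z).symm.trans (by
        rw [Ideal.Quotient.eq_zero_iff_mem.2 hj, zero_smul])) y

theorem isLocallyQuasiRegular_of_conditions (hfg : J.FG) (hproj : Module.Projective (R ⧸ J) J.Cotangent)
    (hsym : ∀ (ι : Type u) [Fintype ι] [Nonempty ι], Function.Injective (canon R J ι)) :
    PP16.IsLocallyQuasiRegular R J := by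
  classical
  rw [isLocallyQuasiRegular_iff]
  intro P hP hJP
  haveI : Module.Finite R ↥J := Module.Finite.iff_fg.2 hfg
  haveI : Module.Finite R J.Cotangent := Module.Finite.of_surjective J.toCotangent J.toCotangent_surjective
  haveI : Module.Finite (R ⧸ J) J.Cotangent := Module.Finite.of_restrictScalars_finite R _ _
  let p : Ideal (R ⧸ J) := P.map (Ideal.Quotient.mk J)
  haveI : p.IsPrime := Ideal.map_isPrime_of_surjective Ideal.Quotient.mk_surjective (by rwa [Ideal.mk_ker])
  have hp : ∀ a : R, Ideal.Quotient.mk J a ∈ p ↔ a ∈ P := fun a => Ideal.mem_quotient_iff_mem hJP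
  let S := p.primeCompl
  let Cp := Localization.AtPrime p
  haveI : Module.Projective Cp (LocalizedModule S J.Cotangent) :=
    Module.projective_of_isLocalizedModule S (LocalizedModule.mkLinearMap S _)
  haveI : Module.Free Cp (LocalizedModule S J.Cotangent) := Module.free_of_flat_of_isLocalRing
  let b := Module.Free.chooseBasis Cp (LocalizedModule S J.Cotangent)
  let σ := Module.Free.ChooseBasisIndex Cp (LocalizedModule S J.Cotangent)
  choose zs hzs using fun i => LocalizedModule.induction_on (β := fun x => ∃ zs : J.Cotangent × S,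
    x = LocalizedModule.mk zs.1 zs.2) (fun z s => ⟨(z, s), rfl⟩) (b i)
  choose f hf using fun i => J.toCotangent_surjective (zs i).1
  let L := LC J f
  have hLc : ∀ c : σ →₀ R ⧸ J, LocalizedModule.mk (L c) (1 : S) =
      Finsupp.linearCombination Cp b (c.sum fun i a => Finsupp.single i (algebraMap (R ⧸ J) Cp (a * (zs i).2))) := by
    intro c
    induction c using Finsupp.induction_linear with
    | zero => simp
    | add x y hx hy =>
      rw [map_add, Finsupp.sum_add_index' (fun i => by simp) (fun i a b => by rw [add_mul, map_add, Finsupp.single_add]),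
        map_add, ← hx, ← hy, LocalizedModule.mk_add_mk]
      simp
    | single i a =>
      rw [Finsupp.sum_single_index (by simp), Finsupp.linearCombination_single, Finsupp.linearCombination_single,
        algebraMap_smul, hzs, LocalizedModule.smul'_mk, hf]
      rw [mul_smul, ← Submonoid.smul_def, LocalizedModule.mk_eq]
      exact ⟨1, by simp [Submonoid.smul_def, smul_comm a]⟩
  -- cokernel and kernel are killed away from `p`
  have hsurj : ∀ z, ∃ u ∈ S, u • z ∈ LinearMap.range L := by
    intro z
    have hz : LocalizedModule.mk z (1 : S) ∈ Submodule.span Cp (Set.range b) := b.mem_span _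
    obtain ⟨c, hc⟩ := (Submodule.mem_span_range_iff_exists_fun Cp).1 hz
    obtain ⟨v, hv⟩ := IsLocalization.exist_integer_multiples S Finset.univ c
    choose a ha using fun i => hv i (Finset.mem_univ i)
    let w : R ⧸ J := ∏ i, ((zs i).2 : R ⧸ J)
    let a' : σ →₀ R ⧸ J := Finsupp.equivFunOnFinite.symm fun i => (∏ j ∈ Finset.univ.erase i, ((zs j).2 : R ⧸ J)) * a i
    have e : LocalizedModule.mk (L a') (1 : S) = LocalizedModule.mk ((w * v) • z) (1 : S) := by
      rw [hLc, Finsupp.sum_fintype _ _ (fun i => by simp), map_sum, ← LocalizedModule.smul'_mk, ← hc, Finset.smul_sum]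
      refine Finset.sum_congr rfl fun i _ => ?_
      rw [Finsupp.linearCombination_single, ← smul_assoc, mul_smul, Algebra.smul_def w, ← ha,
        ← map_mul]
      refine congrArg (fun t => algebraMap (R ⧸ J) Cp t • b i) ?_
      simp only [a', Finsupp.coe_equivFunOnFinite_symm, w]
      rw [← Finset.mul_prod_erase Finset.univ _ (Finset.mem_univ i)]
      ring
    obtain ⟨t, ht⟩ := LocalizedModule.mk_eq.1 e
    simp only [one_smul, Submonoid.smul_def] at ht
    refine ⟨(t : R ⧸ J) * (w * v), mul_mem t.2 (mul_mem (prod_mem fun i _ => (zs i).2.2) v.2), ?_⟩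
    rw [mul_smul, ← ht, ← map_smul]
    exact ⟨_, rfl⟩
  obtain ⟨u, huS, hu⟩ : ∃ u ∈ S, ∀ z, u • z ∈ LinearMap.range L := by
    obtain ⟨t, ht⟩ := Module.Finite.fg_top (R := R ⧸ J) (M := J.Cotangent)
    choose u hu hu' using hsurj
    refine ⟨∏ z ∈ t, u z, prod_mem fun z _ => hu z, fun z => ?_⟩
    have hz : z ∈ Submodule.span (R ⧸ J) (t : Set J.Cotangent) := ht ▸ Submodule.mem_top
    induction hz using Submodule.span_induction with
    | mem y hy => rw [← Finset.prod_erase_mul _ _ hy, mul_smul]; exact Submodule.smul_mem _ _ (hu' y)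
    | zero => rw [smul_zero]; exact zero_mem _
    | add x y _ _ hx hy => rw [smul_add]; exact add_mem hx hy
    | smul c x _ hx => rw [smul_comm]; exact Submodule.smul_mem _ _ hx
  obtain ⟨s, hs⟩ := Module.projective_lifting_property L.rangeRestrict
    (LinearMap.codRestrict (LinearMap.range L) (u • LinearMap.id) hu) L.surjective_rangeRestrict
  have hs' : ∀ z, L (s z) = u • z := fun z => congrArg Subtype.val (LinearMap.congr_fun hs z)
  have hinj : ∀ c, L c = 0 → ∃ v ∈ S, v • c = 0 := by
    intro c hc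
    have h1 := congrArg (fun d => Finsupp.linearCombination Cp b d) (rfl : (0 : σ →₀ Cp) = 0)
    have h2 := hLc c
    rw [hc, LocalizedModule.zero_mk, eq_comm, ← map_zero (Finsupp.linearCombination Cp b)] at h2
    have h3 := b.linearIndependent h2
    have h4 : ∀ i, algebraMap (R ⧸ J) Cp (c i * (zs i).2) = 0 := fun i => by
      have := DFunLike.congr_fun h3 i
      rwa [Finsupp.sum_fintype _ _ (fun j => by simp), Finsupp.finsetSum_apply, Finset.sum_eq_single i
        (fun j _ hj => Finsupp.single_eq_of_ne hj.symm) (fun h => absurd (Finset.mem_univ i) h),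
        Finsupp.single_eq_same, Finsupp.zero_apply] at this
    choose t ht using fun i => (IsLocalization.map_eq_zero_iff S Cp _).1 (h4 i)
    refine ⟨∏ i, ((t i : R ⧸ J) * (zs i).2), prod_mem fun i _ => mul_mem (t i).2 (zs i).2.2, Finsupp.ext fun i => ?_⟩
    rw [Finsupp.smul_apply, Finsupp.zero_apply, smul_eq_mul, ← Finset.prod_erase_mul _ _ (Finset.mem_univ i),
      mul_assoc, show ((t i : R ⧸ J) * (zs i).2) * c i = (t i : R ⧸ J) * (c i * (zs i).2) by ring, ht, mul_zero]
  obtain ⟨v, hvS, hv⟩ : ∃ v ∈ S, ∀ c, v • ((s ∘ₗ L) c - u • c) = 0 := by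
    choose t ht ht' using fun i : σ => hinj ((s ∘ₗ L) (Finsupp.single i 1) - u • Finsupp.single i 1) (by
      rw [map_sub, LinearMap.comp_apply, hs', map_smul, sub_self])
    refine ⟨∏ i, t i, prod_mem fun i _ => ht i, fun c => ?_⟩
    have key : (∏ i, t i) • (s ∘ₗ L - u • LinearMap.id) = (0 : (σ →₀ R ⧸ J) →ₗ[R ⧸ J] (σ →₀ R ⧸ J)) := by
      refine Finsupp.lhom_ext fun i a => ?_
      rw [← mul_one a, ← Finsupp.smul_single', map_smul, map_smul]
      simp only [LinearMap.smul_apply, LinearMap.sub_apply, LinearMap.id_apply, LinearMap.zero_apply]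
      rw [← Finset.prod_erase_mul _ _ (Finset.mem_univ i), mul_smul, ht', smul_zero]
    exact LinearMap.congr_fun key c
  -- lift to the ring
  obtain ⟨g₁, hg₁⟩ := Ideal.Quotient.mk_surjective (u * v)
  have hg₁P : g₁ ∉ P := fun h => mul_mem huS hvS (hg₁ ▸ (hp g₁).2 h)
  obtain ⟨a, haP, ha⟩ : ∃ a ∉ P, ∀ x ∈ J, ∃ m : ℕ, a ^ m * x ∈ Ideal.span (Set.range fun i => (f i : R)) := by
    let R' := Localization.Away g₁
    let al := algebraMap R R'
    let F : Ideal R' := (Ideal.span (Set.range fun i => (f i : R))).map al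
    let N : Submodule R' (R' ⧸ F) := Submodule.map F.mkQ (J.map al)
    have hstep : ∀ x ∈ J, ∃ y ∈ Ideal.span (Set.range fun i => (f i : R)), g₁ * x - y ∈ J ^ 2 := by
      intro x hx
      obtain ⟨c, hc⟩ := hu (J.toCotangent ⟨x, hx⟩)
      obtain ⟨c', hc'⟩ := redCoeff_surjective (R := R) (σ := σ) (C := R ⧸ J) Ideal.Quotient.mk_surjective (v • c)
      let z : ↥J := c'.sum fun j a => a • f j
      have hz : J.toCotangent z = LR J f c' := (LR_apply_eq J f c').symm
      refine ⟨z, ?_, ?_⟩
      · simp only [z, Finsupp.sum, Submodule.coe_sum]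
        exact Ideal.sum_mem _ fun j _ => Ideal.mul_mem_left _ _ (Ideal.subset_span ⟨j, rfl⟩)
      · refine (Ideal.toCotangent_eq J (x := g₁ • (⟨x, hx⟩ : ↥J)) (y := z)).1 ?_
        rw [map_smul, hz, ← LC_mapRange, hc', map_smul, hc, ← mk_smul_cot, hg₁, smul_smul, mul_comm]
    have hin : N ≤ J.map al • N := by
      show _ ≤ J.map al • Submodule.map F.mkQ (J.map al)
      rw [← Submodule.map_smul'']
      rintro _ ⟨y, hy, rfl⟩
      have hle : J.map al ≤ F ⊔ J.map al • J.map al := Ideal.map_le_iff_le_comap.2 fun x hx => by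
        obtain ⟨w, hw, hw'⟩ := hstep x hx
        rw [Ideal.mem_comap, ← Ideal.unit_mul_mem_iff_mem _ (IsLocalization.Away.algebraMap_isUnit (S := R') g₁), ← map_mul,
          show g₁ * x = w + (g₁ * x - w) by ring, map_add]
        refine Submodule.add_mem_sup (Ideal.mem_map_of_mem _ hw) ?_
        rw [smul_eq_mul, ← pow_two, ← Ideal.map_pow]
        exact Ideal.mem_map_of_mem _ hw'
      obtain ⟨w, hw, w', hw', rfl⟩ := Submodule.mem_sup.1 (hle hy)
      rw [map_add, Submodule.mkQ_apply F w, (Submodule.Quotient.mk_eq_zero F).2 hw, zero_add]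
      exact Submodule.mem_map_of_mem hw'
    obtain ⟨r, hr, hr'⟩ := Submodule.exists_sub_one_mem_and_smul_eq_zero_of_fg_of_le_smul (J.map al) N
      (Submodule.FG.map _ (hfg.map al)) hin
    obtain ⟨a, q, rfl⟩ := IsLocalization.exists_mk'_eq (Submonoid.powers g₁) r
    have hq : (q : R) ∉ P := by
      obtain ⟨k, hk⟩ := q.2
      exact fun h => hg₁P (hP.mem_of_pow_mem k (by have hk' : g₁ ^ k = (q : R) := hk; rw [hk']; exact h))
    refine ⟨g₁ * a, fun h => ?_, fun x hx => ?_⟩
    · rcases hP.mem_or_mem h with h | h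
      · exact hg₁P h
      · have h5 := Ideal.mul_mem_right (al q) _ hr
        rw [sub_mul, IsLocalization.mk'_spec, one_mul, ← map_sub] at h5
        obtain ⟨m, hm⟩ := algebraMap_mem h5
        have := (hP.mem_or_mem (hJP hm)).resolve_left fun h => hg₁P (hP.mem_of_pow_mem m h)
        exact hq (by simpa using sub_mem h this)
    · have h5 := hr' _ (Submodule.mem_map_of_mem (Ideal.mem_map_of_mem al hx))
      rw [← map_smul, Submodule.mkQ_apply, Submodule.Quotient.mk_eq_zero, smul_eq_mul] at h5
      have h6 := Ideal.mul_mem_left _ (al q) h5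
      rw [← mul_assoc, mul_comm (al q), IsLocalization.mk'_spec, ← map_mul] at h6
      obtain ⟨m, hm⟩ := algebraMap_mem h6
      refine ⟨m + 1, ?_⟩
      rw [show (g₁ * a) ^ (m + 1) * x = (g₁ * a ^ m) * (g₁ ^ m * (a * x)) by ring]
      exact Ideal.mul_mem_left _ _ hm
  refine ⟨g₁ * a, fun h => (hP.mem_or_mem h).elim hg₁P haP, σ, inferInstance, f, fun x hx => ?_, fun n Q hQ hev d => ?_⟩
  · obtain ⟨m, hm⟩ := ha x hx
    exact ⟨m, by rw [mul_pow, mul_assoc]; exact Ideal.mul_mem_left _ _ hm⟩
  · rcases Nat.eq_zero_or_pos n with rfl | hn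
    · refine ⟨0, ?_⟩
      rw [pow_zero, one_mul]
      have hC : Q = C (Q.coeff 0) := (totalDegree_eq_zero_iff_eq_C.1 (Nat.le_zero.1 hQ.totalDegree_le))
      rw [hC, eval_C, zero_add, pow_one] at hev
      rw [hC, coeff_C]
      split_ifs
      · exact hev
      · exact zero_mem _
    · let ι := ULift.{u} (Fin n)
      have hcard : Fintype.card ι = n := by simp [ι]
      haveI : Nonempty ι := ⟨⟨⟨0, hn⟩⟩⟩
      obtain ⟨x, hx⟩ := PP.homogeneous_mem_range ι Q (by rw [hcard]; exact hQ)
      have h0 : canon R J ι (map (LR J f) x) = 0 :=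
        (canon_map_eq_zero_iff J f x).2 (by rw [hx, hcard]; exact hev)
      have h1 : map (LR J f) x = 0 := hsym ι (by rw [h0, map_zero])
      have h2 : (v • s).restrictScalars R ∘ₗ LR J f = g₁ • redCoeff R (R ⧸ J) σ := by
        rw [LR_eq, ← LinearMap.comp_assoc]
        refine LinearMap.ext fun c => ?_
        have := hv (redCoeff R (R ⧸ J) σ c)
        rw [smul_sub, sub_eq_zero] at this
        simp only [LinearMap.comp_apply, LinearMap.coe_restrictScalars, LinearMap.smul_apply] at this ⊢
        rw [this, smul_smul, mul_comm, ← hg₁]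
        exact algebraMap_smul (R ⧸ J) g₁ _
      have h3 : g₁ ^ n • map (ι := ι) (redCoeff R (R ⧸ J) σ) x = 0 := by
        rw [← hcard, ← map_smul_map, ← h2, SymGr.map_comp, LinearMap.comp_apply, h1, map_zero]
      have h4 := congrArg (prodMap (linFormQ R (C := R ⧸ J) (σ := σ))) h3
      rw [map_smul, prodMap_linFormQ_map, hx, map_zero] at h4
      have h5 := congrArg (coeff d) h4
      rw [coeff_smul, coeff_map, coeff_zero, Algebra.smul_def, ← map_mul, Ideal.Quotient.algebraMap_eq,
        Ideal.Quotient.eq_zero_iff_mem] at h5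
      exact ⟨n, by rw [mul_pow, mul_assoc, mul_left_comm]; exact Ideal.mul_mem_left _ _ h5⟩

theorem iff_conditions :
    PP16.IsLocallyQuasiRegular R J ↔
      J.FG ∧ Module.Projective (R ⧸ J) J.Cotangent ∧ PP16.SymGrBijective R J :=
  ⟨conditions_of_isLocallyQuasiRegular J, fun ⟨h1, h2, h3⟩ =>
    isLocallyQuasiRegular_of_conditions J h1 h2 fun ι _ _ => (symGrBijective_iff J).1 h3 ι⟩

end Groth.Agent.QRegLoc3
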