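import Groth.Agent.Lib.QRegLoc3.Basic
import Groth.Agent.Lib.SymGr.BaseChange
import Groth.Agent.Lib.SymGr.DiffSmoothBC
import Groth.Agent.S3822
import Mathlib.RingTheory.IsTensorProduct
import Mathlib.RingTheory.Flat.FaithfullyFlat.Algebra

/-!
# Descent of quasi-regularity along faithfully flat maps
-/

set_option autoImplicit false

universe u

namespace Groth.Agent.QRegLoc3

open TensorProduct SymGr

variable {A B : Type u} [CommRing A] [CommRing B] [Algebra A B] (I : Ideal A)

local notation "J" => I.map (algebraMap A B)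

/-- A linear map on `I` into a module killed by `IB` extends to the conormal module of `IB`. -/
theorem exists_cotangent_lift [Module.Flat A B] {N : Type u} [AddCommGroup N] [Module A N] [Module B N]
    [IsScalarTower A B N] (hN : ∀ b ∈ J, ∀ n : N, b • n = 0) (h : ↥I →ₗ[A] N) :
    ∃ g : (J).Cotangent →ₗ[B] N,
      ∀ i : ↥I, g ((J).toCotangent ⟨algebraMap A B i, Ideal.mem_map_of_mem _ i.2⟩) = h i := by
  classical
  let f : B ⊗[A] ↥I →ₗ[B] B := ((Algebra.linearMap A B).domRestrict I).liftBaseChange B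
  have hf : Function.Injective f := by
    have h1 : Function.Injective (I.subtype.lTensor B) :=
      Module.Flat.lTensor_preserves_injective_linearMap I.subtype I.subtype_injective
    have e : f.restrictScalars A = (TensorProduct.rid A B).toLinearMap ∘ₗ I.subtype.lTensor B :=
      TensorProduct.ext' fun b i => by simp [f, Algebra.smul_def, mul_comm]
    exact fun x y hxy => h1 ((TensorProduct.rid A B).injective
      ((LinearMap.congr_fun e x).symm.trans (hxy.trans (LinearMap.congr_fun e y))))
  have hr : LinearMap.range f = J := by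
    refine le_antisymm ?_ ?_
    · rintro _ ⟨x, rfl⟩
      induction x with
      | zero => simp
      | add a b ha hb => rw [map_add]; exact add_mem ha hb
      | tmul b i => simpa [f] using Ideal.mul_mem_left _ b (Ideal.mem_map_of_mem (algebraMap A B) i.2)
    · exact Ideal.map_le_iff_le_comap.2 fun i hi => ⟨1 ⊗ₜ ⟨i, hi⟩, by simp [f]⟩
  let e : B ⊗[A] ↥I ≃ₗ[B] ↥(J) := (LinearEquiv.ofInjective f hf).trans (LinearEquiv.ofEq _ _ hr)
  let g₀ : ↥(J) →ₗ[B] N := h.liftBaseChange B ∘ₗ e.symm.toLinearMap
  have hg₀ : ∀ i : ↥I, g₀ ⟨algebraMap A B i, Ideal.mem_map_of_mem _ i.2⟩ = h i := fun i => by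
    have : e (1 ⊗ₜ i) = ⟨algebraMap A B i, Ideal.mem_map_of_mem _ i.2⟩ := by
      refine Subtype.ext ?_
      change f (1 ⊗ₜ i) = _
      simp [f]
    rw [← this]
    change h.liftBaseChange B (e.symm (e (1 ⊗ₜ i))) = h i
    rw [e.symm_apply_apply, LinearMap.liftBaseChange_one_tmul]
  refine ⟨Submodule.liftQ _ g₀ ?_, hg₀⟩
  intro x hx
  rw [LinearMap.mem_ker]
  refine Submodule.smul_induction_on hx (fun b hb y _ => ?_) fun a b ha hb => by rw [map_add, ha, hb, add_zero]
  rw [map_smul, hN b hb]

theorem faithfullyFlat_quotient [Module.FaithfullyFlat A B] [Algebra (A ⧸ I) (B ⧸ J)]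
    [IsScalarTower A (A ⧸ I) (B ⧸ J)] : Module.FaithfullyFlat (A ⧸ I) (B ⧸ J) := by
  let e₀ : (A ⧸ I) ⊗[A] B ≃ₗ[A] B ⧸ J :=
    (TensorProduct.quotTensorEquivQuotSMul B I).trans
      ((Submodule.quotEquivOfEq _ _ (Ideal.smul_top_eq_map I)).trans
        (Submodule.Quotient.restrictScalarsEquiv A _))
  exact Module.FaithfullyFlat.of_linearEquiv (A ⧸ I) ((A ⧸ I) ⊗[A] B)
    (e₀.extendScalarsOfSurjective (S := A ⧸ I) Ideal.Quotient.mk_surjective).symm

set_option backward.isDefEq.respectTransparency false in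
theorem conditions_descend [Module.FaithfullyFlat A B] (hfg : (J).FG)
    (hproj : Module.Projective (B ⧸ J) (J).Cotangent)
    (hinj : ∀ (ι : Type u) [Fintype ι] [Nonempty ι], Function.Injective (canon B (J) ι)) :
    I.FG ∧ Module.Projective (A ⧸ I) I.Cotangent ∧
      ∀ (ι : Type u) [Fintype ι] [Nonempty ι], Function.Injective (canon A I ι) := by
  classical
  have hI : I.FG := Ideal.FG.of_FG_map_of_faithfullyFlat (S := B) hfg
  letI : Algebra (A ⧸ I) (B ⧸ J) := (Ideal.quotientMap (J) (algebraMap A B) Ideal.le_comap_map).toAlgebra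
  haveI : IsScalarTower A (A ⧸ I) (B ⧸ J) := IsScalarTower.of_algebraMap_eq fun a => rfl
  haveI hff : Module.FaithfullyFlat (A ⧸ I) (B ⧸ J) := faithfullyFlat_quotient I
  let β : I.Cotangent →ₗ[A] (J).Cotangent := Ideal.mapCotangent I (J) (Algebra.ofId A B) Ideal.le_comap_map
  have hJN : ∀ (b : B), b ∈ J → ∀ {N : Type u} [AddCommGroup N] [Module B N] [Module (B ⧸ J) N]
      [IsScalarTower B (B ⧸ J) N] (n : N), b • n = 0 := fun b hb N _ _ _ _ n => by
    rw [← algebraMap_smul (B ⧸ J) b, Ideal.Quotient.algebraMap_eq, Ideal.Quotient.eq_zero_iff_mem.2 hb, zero_smul]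
  letI : Module (A ⧸ I) (J).Cotangent := Module.compHom _ (algebraMap (A ⧸ I) (B ⧸ J))
  haveI : IsScalarTower (A ⧸ I) (B ⧸ J) (J).Cotangent := IsScalarTower.of_algebraMap_smul fun _ _ => rfl
  haveI : IsScalarTower A (B ⧸ J) (J).Cotangent := IsScalarTower.of_algebraMap_smul fun a m => by
    rw [IsScalarTower.algebraMap_apply A B (B ⧸ J), algebraMap_smul, algebraMap_smul]
  haveI : IsScalarTower A (A ⧸ I) (J).Cotangent := IsScalarTower.of_algebraMap_smul fun a m => by
    show algebraMap (A ⧸ I) (B ⧸ J) (algebraMap A (A ⧸ I) a) • m = a • m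
    rw [← IsScalarTower.algebraMap_apply, algebraMap_smul]
  let β' : I.Cotangent →ₗ[A ⧸ I] (J).Cotangent := LinearMap.extendScalarsOfSurjective Ideal.Quotient.mk_surjective β
  have hβ' : IsBaseChange (B ⧸ J) β' := by
    refine IsBaseChange.of_lift_unique _ fun Q _ _ _ _ g => ?_
    letI : AddCommGroup Q := Module.addCommMonoidToAddCommGroup (A ⧸ I)
    letI : Module B Q := Module.compHom Q (algebraMap B (B ⧸ J))
    haveI : IsScalarTower B (B ⧸ J) Q := IsScalarTower.of_algebraMap_smul fun _ _ => rfl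
    letI : Module A Q := Module.compHom Q (algebraMap A (A ⧸ I))
    haveI : IsScalarTower A (A ⧸ I) Q := IsScalarTower.of_algebraMap_smul fun _ _ => rfl
    haveI : IsScalarTower A B Q := IsScalarTower.of_algebraMap_smul fun a q => by
      show algebraMap B (B ⧸ J) (algebraMap A B a) • q = algebraMap A (A ⧸ I) a • q
      rw [← algebraMap_smul (B ⧸ J) (algebraMap A (A ⧸ I) a) q]
      rfl
    obtain ⟨G, hG⟩ := exists_cotangent_lift I (B := B) (N := Q) (fun b hb n => hJN b hb n)
      ((g.restrictScalars A) ∘ₗ I.toCotangent)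
    refine ⟨LinearMap.extendScalarsOfSurjective Ideal.Quotient.mk_surjective G, LinearMap.ext fun m => ?_, fun G' hG' => ?_⟩
    · obtain ⟨i, rfl⟩ := I.toCotangent_surjective m
      exact hG i
    · refine LinearMap.ext fun z => ?_
      obtain ⟨⟨y, hy⟩, rfl⟩ := (J).toCotangent_surjective z
      have key : ∀ y ∈ J, ∀ hy : y ∈ J, G' ((J).toCotangent ⟨y, hy⟩) = G ((J).toCotangent ⟨y, hy⟩) := by
        intro y hy
        induction hy using Submodule.span_induction with
        | mem x hx =>
          obtain ⟨i, hi, rfl⟩ := hx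
          intro _
          exact (LinearMap.congr_fun hG' (I.toCotangent ⟨i, hi⟩)).trans (hG ⟨i, hi⟩).symm
        | zero => intro _; rw [show (⟨0, _⟩ : ↥(J)) = 0 from rfl, map_zero, map_zero, map_zero]
        | add a b ha hb iha ihb =>
          intro _
          rw [show (⟨a + b, _⟩ : ↥(J)) = ⟨a, ha⟩ + ⟨b, hb⟩ from rfl, map_add, map_add, map_add, iha ha, ihb hb]
        | smul c a ha iha =>
          intro _
          rw [show (⟨c • a, _⟩ : ↥(J)) = c • ⟨a, ha⟩ from rfl, map_smul, LinearMap.map_smul_of_tower, iha ha, map_smul]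
      exact key y hy hy
  haveI : Module.Finite B ↥(J) := Module.Finite.iff_fg.2 hfg
  haveI : Module.Finite B (J).Cotangent := Module.Finite.of_surjective (J).toCotangent (J).toCotangent_surjective
  haveI : Module.Finite (B ⧸ J) (J).Cotangent := Module.Finite.of_restrictScalars_finite B _ _
  haveI : Module.Finite (B ⧸ J) ((B ⧸ J) ⊗[A ⧸ I] I.Cotangent) := Module.Finite.equiv hβ'.equiv.symm
  haveI : Module.Projective (B ⧸ J) ((B ⧸ J) ⊗[A ⧸ I] I.Cotangent) := Module.Projective.of_equiv hβ'.equiv.symm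
  obtain ⟨-, hP⟩ := S3822.projective_descent (R := A ⧸ I) (R' := B ⧸ J) (M := I.Cotangent)
  refine ⟨hI, hP, fun ι _ _ => ?_⟩
  rw [injective_iff_map_eq_zero]
  intro y hy
  -- the image in the symmetric power over `B` vanishes
  letI : Module A (Sym[B] ι (J).Cotangent) := Module.compHom _ (algebraMap A B)
  haveI : IsScalarTower A B (Sym[B] ι (J).Cotangent) := IsScalarTower.of_algebraMap_smul fun _ _ => rfl
  let gm : gr A I (Fintype.card ι) →ₗ[A] gr B (J) (Fintype.card ι) :=
    Submodule.liftQ _
      { toFun := fun x => Submodule.Quotient.mk ⟨algebraMap A B x.1, by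
          rw [Submodule.restrictScalars_mem, ← Ideal.map_pow]; exact Ideal.mem_map_of_mem _ x.2⟩
        map_add' := fun a b => by
          rw [← Submodule.Quotient.mk_add]; exact congrArg Submodule.Quotient.mk (Subtype.ext (map_add _ _ _))
        map_smul' := fun c a => by
          conv_rhs => rw [RingHom.id_apply, ← algebraMap_smul B c, ← Submodule.Quotient.mk_smul]
          exact congrArg Submodule.Quotient.mk (Subtype.ext (map_mul _ _ _)) }
      fun x hx => (Submodule.Quotient.mk_eq_zero _).2 (by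
        show algebraMap A B x.1 ∈ (J) ^ (Fintype.card ι + 1)
        rw [← Ideal.map_pow]; exact Ideal.mem_map_of_mem _ hx)
  have hsq : (canon B (J) ι).restrictScalars A ∘ₗ bcLin (R' := B) β = gm ∘ₗ canon A I ι := hom_ext fun z => by
    obtain ⟨z, rfl⟩ : ∃ x : ι → ↥I, (fun i => I.toCotangent (x i)) = z :=
      ⟨fun i => rep I (z i), funext fun i => toCotangent_rep I _⟩
    rw [LinearMap.comp_apply, LinearMap.comp_apply, bcLin_tprod, canon_tprod]
    refine (canon_tprod B (J) ι fun i => ⟨algebraMap A B (z i), Ideal.mem_map_of_mem _ (z i).2⟩).trans ?_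
    exact congrArg Submodule.Quotient.mk (Subtype.ext (map_prod (algebraMap A B) _ _).symm)
  have h0 : bcLin (R' := B) β y = 0 := hinj ι (by
    rw [map_zero]
    exact (LinearMap.congr_fun hsq y).trans (by rw [LinearMap.comp_apply, hy, map_zero]))
  -- compare in polynomial rings
  haveI := hP
  obtain ⟨s, hs⟩ := Module.projective_def'.mp hP
  let P : Sym[A] ι I.Cotangent →ₗ[A] MvPolynomial I.Cotangent (A ⧸ I) :=
    prodMap (linFormQ A) ∘ₗ map (s.restrictScalars A)
  have hPinj : Function.Injective P :=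
    (prodMap_linFormQ_injective (R := A) (C := A ⧸ I) Ideal.Quotient.mk_surjective).comp
      (map_injective_of_leftInverse (s.restrictScalars A)
        ((Finsupp.linearCombination (A ⧸ I) (id : I.Cotangent → I.Cotangent)).restrictScalars A)
        (LinearMap.ext fun v => LinearMap.congr_fun hs v))
  let q : (A ⧸ I) →ₐ[A] B ⧸ J := IsScalarTower.toAlgHom A (A ⧸ I) (B ⧸ J)
  obtain ⟨s', hs'⟩ := exists_cotangent_lift I (B := B) (N := I.Cotangent →₀ B ⧸ J) (fun b hb n => hJN b hb n)
    (Finsupp.mapRange.linearMap q.toLinearMap ∘ₗ s.restrictScalars A ∘ₗ I.toCotangent)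
  let T : Sym[B] ι (J).Cotangent →ₗ[B] MvPolynomial I.Cotangent (B ⧸ J) := prodMap (linFormQ B ∘ₗ s')
  have hT : T.restrictScalars A ∘ₗ bcLin (R' := B) β =
      (MvPolynomial.mapAlgHom q).toLinearMap ∘ₗ P := hom_ext fun z => by
    simp only [P, LinearMap.comp_apply, map_tprod, prodMap_tprod, AlgHom.toLinearMap_apply, map_prod, bcLin_tprod]
    change T (SymmetricPower.tprod B fun i => β (z i)) = _
    rw [prodMap_tprod]
    refine Finset.prod_congr rfl fun i _ => ?_
    obtain ⟨w, hw⟩ := I.toCotangent_surjective (z i)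
    rw [← hw]
    change linFormQ B (s' (β (I.toCotangent w))) = _
    rw [show β (I.toCotangent w) = (J).toCotangent ⟨algebraMap A B w, Ideal.mem_map_of_mem _ w.2⟩ from rfl, hs']
    simp only [LinearMap.comp_apply, LinearMap.coe_restrictScalars]
    generalize s (I.toCotangent w) = c
    induction c using Finsupp.induction_linear with
    | zero => simp
    | add a b ha hb => simp only [map_add, ha, hb]
    | single a c => simp [linFormQ, linForm, MvPolynomial.smul_eq_C_mul]
  have h1 : MvPolynomial.map (q : (A ⧸ I) →+* B ⧸ J) (P y) = 0 := by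
    have := LinearMap.congr_fun hT y
    rw [LinearMap.comp_apply, LinearMap.comp_apply, h0, map_zero] at this
    exact this.symm
  refine hPinj ((MvPolynomial.map_injective (q : (A ⧸ I) →+* B ⧸ J) ?_) (h1.trans (map_zero _).symm) |>.trans (map_zero P).symm)
  exact FaithfulSMul.algebraMap_injective (A ⧸ I) (B ⧸ J)

theorem isLocallyQuasiRegular_descend [Module.FaithfullyFlat A B] (h : PP16.IsLocallyQuasiRegular B (J)) :
    PP16.IsLocallyQuasiRegular A I := by
  rw [iff_conditions] at h
  obtain ⟨h1, h2, h3⟩ := h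
  obtain ⟨g1, g2, g3⟩ := conditions_descend I h1 h2 fun ι _ _ => (symGrBijective_iff _).1 h3 ι
  exact (iff_conditions I).2 ⟨g1, g2, (symGrBijective_iff I).2 g3⟩

end Groth.Agent.QRegLoc3
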